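import Groth.Agent.InvX.Pullback
import Groth.Agent.InvX.Tensor
import Groth.Agent.DivX.MeroMod
import Groth.Agent.S2122
import Groth.Agent.Lib.InvEnd
import Groth.Agent.Lib.CurveStable
import Groth.Prelude.Def_Frob

/-!
# The Frobenius inverse image of an invertible module is its `p`-th power
-/

set_option autoImplicit false
set_option backward.isDefEq.respectTransparency false

universe u

open CategoryTheory CategoryTheory.Limits AlgebraicGeometry TopologicalSpace Opposite

namespace Groth.Agent.KodV43

open Groth.Agent.AModX Groth.Agent.InvX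

noncomputable section

variable {X : Scheme.{u}} {L : X.Modules}

/-- Tensor powers of a section. -/
def powSect {U : X.Opens} (e : Γ(L, U)) : ∀ n, Γ(CohB1.tensorPow L n, U)
  | 0 => (show Γ(Coh.structureModule X, U) from (1 : Γ(X, U)))
  | n + 1 => InvX.tmul (powSect e n) e

theorem powSect_smul {U : X.Opens} (g : Γ(X, U)) (e : Γ(L, U)) :
    ∀ n, powSect (g • e) n = g ^ n • powSect e n
  | 0 => by rw [pow_zero, one_smul]; rfl
  | n + 1 => by
    show InvX.tmul (powSect (g • e) n) (g • e) = g ^ (n + 1) • InvX.tmul (powSect e n) e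
    rw [powSect_smul g e n, InvX.tmul_smul_left, InvX.tmul_smul_right, smul_smul, ← pow_succ]

theorem res_powSect {U V : X.Opens} (h : V ≤ U) (e : Γ(L, U)) :
    ∀ n, AModX.res (CohB1.tensorPow L n) h (powSect e n) = powSect (AModX.res L h e) n
  | 0 => map_one (X.presheaf.map (homOfLE h).op).hom
  | n + 1 => by
    show AModX.res _ h (InvX.tmul (powSect e n) e) = InvX.tmul (powSect (AModX.res L h e) n) (AModX.res L h e)
    rw [InvX.res_tmul, res_powSect h e n]

theorem isFrame_powSect {U : X.Opens} {e : Γ(L, U)} (he : IsFrame e) :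
    ∀ n, IsFrame (powSect e n)
  | 0 => InvX.isFrame_one U
  | n + 1 => InvX.isFrame_tmul (isFrame_powSect he n) he

variable (p : ℕ) [Fact p.Prime] [FrobSch.IsCharP X p]

/-- The inverse image of a section, over the same open. -/
def pe {U : X.Opens} (e : Γ(L, U)) : Γ((Scheme.Modules.pullback (FrobSch.frob X p)).obj L, U) :=
  InvX.pullElt (FrobSch.frob X p) e

theorem pe_smul {U : X.Opens} (g : Γ(X, U)) (e : Γ(L, U)) : pe p (g • e) = g ^ p • pe p e :=
  Scheme.Modules.Hom.app_smul ((Scheme.Modules.pullbackPushforwardAdjunction (FrobSch.frob X p)).unit.app L) g e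

theorem res_pe {U V : X.Opens} (h : V ≤ U) (e : Γ(L, U)) :
    AModX.res ((Scheme.Modules.pullback (FrobSch.frob X p)).obj L) h (pe p e) = pe p (AModX.res L h e) :=
  (AModX.app_res ((Scheme.Modules.pullbackPushforwardAdjunction (FrobSch.frob X p)).unit.app L) h e).symm

/-- `F^* L ≅ L^{⊗ p}`. -/
theorem nonempty_frobPullIso (hL : PicF.IsInvertible L) :
    Nonempty ((Scheme.Modules.pullback (FrobSch.frob X p)).obj L ≅ CohB1.tensorPow L p) := by
  choose U hxU e he using fun x : X => InvX.exists_frame hL x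
  let F := FrobSch.frob X p
  let M := (Scheme.Modules.pullback F).obj L
  let e' : ∀ x : X, Γ(M, U x) := fun x => pe p (e x)
  have he' : ∀ x, IsFrame (e' x) := fun x => InvX.isFrame_pullElt F (he x)
  let n : ∀ x : X, Γ(CohB1.tensorPow L p, U x) := fun x => powSect (e x) p
  have hc : ∀ (a b : X) (W : X.Opens) (ha : W ≤ U a) (hb : W ≤ U b) (g : Γ(X, W)),
      AModX.res M hb (e' b) = g • AModX.res M ha (e' a) →
        AModX.res _ hb (n b) = g • AModX.res _ ha (n a) := by
    intro a b W ha hb g hg
    obtain ⟨g₀, hg₀⟩ := (he a).exists_coord ha (AModX.res L hb (e b))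
    have h1 : AModX.res M hb (e' b) = g₀ ^ p • AModX.res M ha (e' a) := by
      refine (res_pe p hb (e b)).trans ?_
      rw [hg₀]
      exact (pe_smul p g₀ _).trans (congrArg (g₀ ^ p • ·) (res_pe p ha (e a)).symm)
    have h2 : g = g₀ ^ p := (he' a).coord_unique ha (hg.symm.trans h1)
    show AModX.res _ hb (powSect (e b) p) = g • AModX.res _ ha (powSect (e a) p)
    rw [res_powSect, res_powSect, hg₀, powSect_smul, h2]
  let φ : M ⟶ CohB1.tensorPow L p := InvX.ofFrames (fun x => ⟨x, hxU x⟩) he' hc
  haveI : IsIso φ := DivX.isIso_of_frames φ fun x =>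
    ⟨U x, hxU x, e' x, he' x, by
      rw [show φ.app (U x) (e' x) = n x from InvX.ofFrames_app (fun x => ⟨x, hxU x⟩) he' hc x]
      exact isFrame_powSect (he x) p⟩
  exact ⟨asIso φ⟩

end

end Groth.Agent.KodV43
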