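import Groth.Agent.OmegaUniv.ToSectIso
import Groth.Agent.GaChar.PthRoot
import Groth.Agent.RelTildeX.SheafCrit
import Groth.Agent.QCoh.PushLin
import Groth.Agent.Synt29.OmegaStalk
import Groth.Prelude.Def_Frob
import Groth.Prelude.Def_Pi1
import Mathlib.FieldTheory.Perfect

/-!
# The differential on the Frobenius direct image of the structure sheaf
-/

set_option autoImplicit false
set_option backward.isDefEq.respectTransparency false
set_option backward.isDefEq.respectTransparency.types false

universe u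

open CategoryTheory CategoryTheory.Limits AlgebraicGeometry TopologicalSpace Opposite
open Groth.Agent.Synt29

namespace Groth.Agent.KodV43

noncomputable section

variable {X : Scheme.{u}} (p : ℕ) [Fact p.Prime] [FrobSch.IsCharP X p]

theorem push_smul' (M : X.Modules) (U : X.Opens) (r : Γ(X, U)) (m : Γ(M, U)) :
    r • (show Γ((Coh.push (FrobSch.frob X p)).obj M, U) from m) =
      (show Γ((Coh.push (FrobSch.frob X p)).obj M, U) from (show Γ(X, U) from r ^ p) • m) :=
  QCoh.pushforward_smul (FrobSch.frob X p) U r m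

/-- `O → F_* O`, `s ↦ s^p`. -/
def powMap : Coh.structureModule X ⟶ (Coh.push (FrobSch.frob X p)).obj (Coh.structureModule X) :=
  SheafOfModules.unitToPushforwardObjUnit (FrobSch.frob X p).toRingCatSheafHom

theorem powMap_app (U : X.Opens) (s : Γ(X, U)) :
    (powMap p).app U (OmegaSh.strSect X U s) = OmegaSh.strSect X U (s ^ p) := rfl

theorem mono_powMap [IsReduced X] : Mono (powMap (X := X) p) := by
  refine Preadditive.mono_of_cancel_zero _ fun {T} g hg => ?_
  refine Scheme.Modules.hom_ext _ _ fun U => ?_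
  ext t
  have h : (powMap p).app U (g.app U t) = 0 := congrArg (fun φ : T ⟶ _ => φ.app U t) hg
  have key : ∀ z : Γ(X, U), (powMap p).app U (OmegaSh.strSect X U z) = 0 → OmegaSh.strSect X U z = 0 :=
    fun z hz => by
      have hz' : z ^ p = 0 := hz
      rw [eq_zero_of_pow_eq_zero hz', map_zero]
  exact key (OmegaSh.fnSect X U (g.app U t)) h

/-- Differentials of `p`-th powers vanish. -/
theorem der_pow {Y : Scheme.{u}} {f : X ⟶ Y} {F : X.Modules} (D : OmegaSh.Der f F) (U : X.Opens) (r : Γ(X, U)) :
    D.app U (r ^ p) = 0 := by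
  have h : ∀ n : ℕ, D.app U (r ^ (n + 1)) = ((n + 1 : ℕ) : Γ(X, U)) • (r ^ n • D.app U r) := by
    intro n
    induction n with
    | zero => simp
    | succ n ih =>
      rw [pow_succ r (n + 1), OmegaStalk.app_mul, ih, smul_smul, smul_smul, smul_smul, ← add_smul]
      congr 1
      push_cast
      ring
  have hp : p - 1 + 1 = p := Nat.succ_pred_eq_of_pos (Fact.out : p.Prime).pos
  have h2 := h (p - 1)
  rw [hp] at h2
  rw [h2, FrobSch.natCast_eq_zero_app X p U, zero_smul]

variable {k : Type u} [Field k] [X.Over (Spec (CommRingCat.of k))] [QuasiSeparated (X ↘ Spec (CommRingCat.of k))]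

theorem dOmega_pow_mul (U : X.Opens) (r s : Γ(X, U)) :
    (OmegaSh.dOmega (X ↘ Spec (CommRingCat.of k))).app U (r ^ p * s) =
      (show Γ(X, U) from r ^ p) • (OmegaSh.dOmega (X ↘ Spec (CommRingCat.of k))).app U s := by
  rw [OmegaStalk.app_mul, der_pow p _ U r, smul_zero, add_zero]

/-- The components of `dPush`. -/
def dPre : ((Coh.push (FrobSch.frob X p)).obj (Coh.structureModule X)).presheaf ⟶
    ((Coh.push (FrobSch.frob X p)).obj (Omega.sheaf (X ↘ Spec (CommRingCat.of k)))).presheaf where
  app U := AddCommGrpCat.ofHom ((OmegaSh.dOmega (X ↘ Spec (CommRingCat.of k))).app U.unop)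
  naturality := fun U V i => by
    ext s
    exact (OmegaSh.dOmega (X ↘ Spec (CommRingCat.of k))).d_map i (show Γ(X, U.unop) from s)

theorem dPre_app (U : X.Opens) (s : Γ(X, U)) :
    (dPre (X := X) p (k := k)).app (op U) s =
      (show Γ((Coh.push (FrobSch.frob X p)).obj (Omega.sheaf (X ↘ Spec (CommRingCat.of k))), U) from
        (OmegaSh.dOmega (X ↘ Spec (CommRingCat.of k))).app U s) := rfl

theorem dPre_smul (U : X.Opens) (r : Γ(X, U))
    (s : Γ((Coh.push (FrobSch.frob X p)).obj (Coh.structureModule X), U)) :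
    (dPre (X := X) p (k := k)).app (op U) (r • s) = r • (dPre (X := X) p (k := k)).app (op U) s := by
  rw [dPre_app, push_smul' p _ U r (show Γ(Coh.structureModule X, U) from s)]
  refine Eq.trans ?_ (push_smul' p _ U r _).symm
  exact dOmega_pow_mul p U r (show Γ(X, U) from s)

/-- `d : F_* O → F_* Ω`, linear because differentials of `p`-th powers vanish. -/
def dPush : (Coh.push (FrobSch.frob X p)).obj (Coh.structureModule X) ⟶
    (Coh.push (FrobSch.frob X p)).obj (Omega.sheaf (X ↘ Spec (CommRingCat.of k))) where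
  val := PresheafOfModules.homMk (dPre (X := X) p (k := k)) fun U r s => dPre_smul p U.unop r s

theorem powMap_comp_dPush : powMap p ≫ dPush (X := X) p (k := k) = 0 := by
  refine Scheme.Modules.hom_ext _ _ fun U => ?_
  ext s
  exact der_pow p (OmegaSh.dOmega (X ↘ Spec (CommRingCat.of k))) U s

/-- Over an affine open, a vanishing differential gives a vanishing absolute differential in the stalk. -/
theorem D_germ_eq_zero [CharP k p] [IsAlgClosed k] {U : X.Opens} (hU : IsAffineOpen U) {x : X} (hx : x ∈ U)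
    (s : Γ(X, U)) (hs : (OmegaSh.dOmega (X ↘ Spec (CommRingCat.of k))).app U s = 0) :
    KaehlerDifferential.D ℤ (X.presheaf.stalk x) (X.presheaf.germ U x hx s) = 0 := by
  let f := X ↘ Spec (CommRingCat.of k)
  let e : U ≤ f ⁻¹ᵁ ⊤ := le_top
  let φ := f.appLE ⊤ U e
  have h1 : CommRingCat.KaehlerDifferential.d (f := φ) s = 0 := by
    refine (OmegaUniv.toSect_bijective f hU (isAffineOpen_top _) e).1 ?_
    exact (OmAff.toSect_d f ⊤ U e s).trans (hs.trans (map_zero _).symm)
  letI : Algebra Γ(Spec (CommRingCat.of k), ⊤) Γ(X, U) := φ.hom.toAlgebra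
  letI : Module Γ(X, U) (Ω[X.presheaf.stalk x⁄ℤ]) := Module.compHom _ (X.presheaf.germ U x hx).hom
  have hc : ∀ c : Γ(Spec (CommRingCat.of k), ⊤),
      KaehlerDifferential.D ℤ (X.presheaf.stalk x) (X.presheaf.germ U x hx (φ c)) = 0 := by
    intro c
    obtain ⟨b, hb⟩ := IsAlgClosed.exists_pow_nat_eq ((Scheme.ΓSpecIso (CommRingCat.of k)).hom c)
      (Fact.out : p.Prime).pos
    have hcb : c = ((Scheme.ΓSpecIso (CommRingCat.of k)).inv b) ^ p := by
      rw [← map_pow, hb, Iso.hom_inv_id_apply]
    rw [hcb, map_pow, map_pow, Derivation.leibniz_pow, ← Nat.cast_smul_eq_nsmul (X.presheaf.stalk x),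
      show ((p : ℕ) : X.presheaf.stalk x) = 0 by
        rw [← map_natCast (X.presheaf.germ U x hx).hom, FrobSch.natCast_eq_zero_app X p U, map_zero],
      zero_smul]
  let δ : (ModuleCat.of Γ(X, U) (Ω[X.presheaf.stalk x⁄ℤ])).Derivation φ :=
    ModuleCat.Derivation.mk (fun b => KaehlerDifferential.D ℤ (X.presheaf.stalk x) (X.presheaf.germ U x hx b))
      (fun a b => by simp only [map_add])
      (fun a b => by simp only [map_mul, Derivation.leibniz]; rfl)
      hc
  have h2 := δ.desc_d s
  rw [h1, map_zero] at h2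
  exact h2.symm

/-- On a normal scheme, the functions with vanishing differential are locally `p`-th powers. -/
theorem exact_powMap_dPush [CharP k p] [IsAlgClosed k] [IsLocallyNoetherian X] (hn : Pi1.IsNormalScheme X) :
    (ShortComplex.mk (powMap p) (dPush (X := X) p (k := k)) (powMap_comp_dPush p)).Exact := by
  refine RelTildeX.exact_of_locally _ fun U (s : Γ(X, U)) hs x hx => ?_
  obtain ⟨_, ⟨W, hW, rfl⟩, hxW, hWU⟩ := X.isBasis_affineOpens.exists_subset_of_mem_open hx U.2
  let sW : Γ(X, W) := X.presheaf.map (homOfLE hWU).op s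
  have hsW : (OmegaSh.dOmega (X ↘ Spec (CommRingCat.of k))).app W sW = 0 :=
    (OmegaStalk.app_res _ _ (homOfLE hWU) s).trans ((congrArg _ hs).trans (map_zero _))
  haveI := (hn x).1
  haveI := (hn x).2
  haveI : CharP (X.presheaf.stalk x) p := (CharP.charP_iff_prime_eq_zero Fact.out).2 (by
    rw [← map_natCast (X.presheaf.germ W x hxW).hom, FrobSch.natCast_eq_zero_app X p W, map_zero])
  obtain ⟨t, ht⟩ := GaChar.exists_pow_eq p (D_germ_eq_zero p hW hxW sW hsW)
  obtain ⟨V, hxV, t', rfl⟩ := X.presheaf.exists_germ_eq t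
  rw [← map_pow] at ht
  obtain ⟨V', hxV', i, j, heq⟩ := X.presheaf.germ_eq x hxV hxW _ _ ht
  refine ⟨V', (leOfHom j).trans hWU, hxV', X.presheaf.map i.op t', ?_⟩
  change (show Γ(X, V') from X.presheaf.map i.op t') ^ p = X.presheaf.map (homOfLE _).op s
  rw [← map_pow, heq]
  change (X.presheaf.map (homOfLE hWU).op ≫ X.presheaf.map j.op) s = _
  rw [← Functor.map_comp]
  rfl

/-- `F_* O / O → F_* Ω` is a monomorphism. -/
theorem mono_desc_dPush [CharP k p] [IsAlgClosed k] [IsLocallyNoetherian X] (hn : Pi1.IsNormalScheme X) :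
    Mono (cokernel.desc (powMap (X := X) p) (dPush p (k := k)) (powMap_comp_dPush p)) :=
  (ShortComplex.exact_iff_mono_cokernel_desc
    (ShortComplex.mk (powMap p) (dPush (X := X) p (k := k)) (powMap_comp_dPush p))).1 (exact_powMap_dPush p hn)

end

end Groth.Agent.KodV43
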