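import Groth.Agent.KodV43.Homeo
import Groth.Agent.KodV43.FrobDiff
import Groth.Agent.FrobSchLib.Basic
import Groth.Agent.Lib.CurveTensor
import Groth.Agent.CurveCohLib.Rank
import Groth.Prelude.Def_FlatMod2

/-!
# Injectivity of Frobenius on first cohomology
-/

set_option autoImplicit false
set_option linter.style.haveILetI false
set_option backward.isDefEq.respectTransparency false
set_option backward.isDefEq.respectTransparency.types false

universe u

open CategoryTheory CategoryTheory.Limits AlgebraicGeometry TopologicalSpace Opposite MonoidalCategory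
open Groth.Agent.PnCoh.Finite (mapLin deltaLin)

namespace Groth.Agent.KodV43

open Groth.Agent.KFlatLib hiding structureTensorIso
open Groth.Agent.CurveTensor

noncomputable section

variable {X : Scheme.{u}}

theorem structureTensorIso_tmSh (M : X.Modules) {U : X.Opens} (a : Γ(X, U))
    (b : (DCoh.toP.obj M).obj (op U)) :
    (DCoh.toP.map (structureTensorIso M).hom).app (op U) (tmSh (Coh.structureModule X) M a b) = sm a b := by
  let adj := PresheafOfModules.sheafificationAdjunction (𝟙 X.ringCatSheaf.obj)
  have h : unitShP (DCoh.toP.obj (Coh.structureModule X) ⊗ DCoh.toP.obj M) ≫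
      DCoh.toP.map (structureTensorIso M).hom = (λ_ (DCoh.toP.obj M)).hom := by
    show unitShP (𝟙_ (CohB1.PMod X) ⊗ DCoh.toP.obj M) ≫
      DCoh.toP.map (DCoh.shP.map (λ_ (DCoh.toP.obj M)).hom ≫ (counitShP X).app M) = _
    rw [Functor.map_comp, ← Category.assoc, ← unitShP_naturality, Category.assoc]
    exact (congrArg (_ ≫ ·) (adj.right_triangle_components M)).trans (Category.comp_id _)
  exact congrArg (fun g : _ ⟶ DCoh.toP.obj M => g.app (op U) (tm a b)) h

variable (p : ℕ) [Fact p.Prime] [FrobSch.IsCharP X p]

theorem isHomeomorph_frob : IsHomeomorph (FrobSch.frob X p).base :=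
  (Homeomorph.refl X).isHomeomorph

/-- The comparison `E ⊗ F_* O ⟶ F_* F^* E`. -/
def projUnit (E : X.Modules) :
    (DCoh.tensorBi.obj ((Coh.push (FrobSch.frob X p)).obj (Coh.structureModule X))).obj E ⟶
      (Coh.push (FrobSch.frob X p)).obj ((Scheme.Modules.pullback (FrobSch.frob X p)).obj E) :=
  projMod (FrobSch.frob X p) (Coh.structureModule X) E ≫
    (Coh.push (FrobSch.frob X p)).map (structureTensorIso _).hom

theorem isIso_projUnit (E : X.Modules) : IsIso (projUnit p E) := by
  haveI := isIso_projMod_of_homeo (FrobSch.frob X p) (isHomeomorph_frob p) (Coh.structureModule X) E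
  unfold projUnit
  infer_instance

theorem powMap_projUnit (E : X.Modules) :
    (DCoh.tensorBi.map (powMap p)).app E ≫ projUnit p E = (structureTensorIso E).hom ≫
      (Scheme.Modules.pullbackPushforwardAdjunction (FrobSch.frob X p)).unit.app E := by
  let F := FrobSch.frob X p
  let adj := Scheme.Modules.pullbackPushforwardAdjunction F
  apply (adj.homEquiv _ _).symm.injective
  rw [adj.homEquiv_naturality_left_symm, adj.homEquiv_naturality_left_symm, projUnit,
    adj.homEquiv_naturality_right_symm, projMod, Equiv.symm_apply_apply, projPre]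
  rw [show (adj.homEquiv E ((Scheme.Modules.pullback F).obj E)).symm (adj.unit.app E) = 𝟙 _ by
    rw [Equiv.symm_apply_eq, adj.homEquiv_id]]
  rw [Category.comp_id]
  refine pullback_tensor_ext F fun W s t => ?_
  change (DCoh.toP.map (structureTensorIso _).hom).app _
      ((DCoh.toP.map ((DCoh.tensorBi.map (adj.counit.app _)).app _)).app _
        ((DCoh.toP.map (pullTensorHom F _ E)).app _
          ((DCoh.toP.map ((Scheme.Modules.pullback F).map ((DCoh.tensorBi.map (powMap p)).app E))).app _
            (pb F (tmSh (Coh.structureModule X) E s t))))) =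
    (DCoh.toP.map ((Scheme.Modules.pullback F).map (structureTensorIso E).hom)).app _
      (pb F (tmSh (Coh.structureModule X) E s t))
  let O := Coh.structureModule X
  let sp : (DCoh.toP.obj ((Coh.push F).obj O)).obj (op W) := (DCoh.toP.map (powMap p)).app (op W) s
  have e1 : (DCoh.toP.map ((Scheme.Modules.pullback F).map ((DCoh.tensorBi.map (powMap p)).app E))).app _
      (pb F (tmSh O E s t)) = pb F (tmSh ((Coh.push F).obj O) E sp t) :=
    (pb_naturality F ((DCoh.tensorBi.map (powMap p)).app E) (tmSh O E s t)).symm.trans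
      (congrArg (pb F) (tmSh_naturality_left (powMap p) E s t))
  have hc : (DCoh.toP.map (adj.counit.app O)).app (op (F ⁻¹ᵁ W)) (pb F sp) =
      (show (DCoh.toP.obj O).obj (op (F ⁻¹ᵁ W)) from (show Γ(X, W) from s) ^ p) :=
    congrArg (fun g : _ ⟶ (Coh.push F).obj O => (DCoh.toP.map g).app (op W) sp)
      (adj.right_triangle_components O)
  have e2 : (DCoh.toP.map ((Scheme.Modules.pullback F).map (structureTensorIso E).hom)).app _
      (pb F (tmSh O E s t)) = sm ((show Γ(X, W) from s) ^ p) (pb F t) := by
    refine (pb_naturality F (structureTensorIso E).hom (tmSh O E s t)).symm.trans ?_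
    refine (congrArg (pb F) (structureTensorIso_tmSh E (show Γ(X, W) from s) t)).trans ?_
    exact pb_sm F _ t
  refine Eq.trans ?_ e2.symm
  refine (congrArg (fun z => (DCoh.toP.map (structureTensorIso _).hom).app _
      ((DCoh.toP.map ((DCoh.tensorBi.map (adj.counit.app O)).app _)).app _
        ((DCoh.toP.map (pullTensorHom F _ E)).app _ z))) e1).trans ?_
  refine (congrArg (fun z => (DCoh.toP.map (structureTensorIso _).hom).app _
      ((DCoh.toP.map ((DCoh.tensorBi.map (adj.counit.app O)).app _)).app _ z))
    (pullTensorHom_pb F _ E sp t)).trans ?_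
  refine (congrArg (fun z => (DCoh.toP.map (structureTensorIso _).hom).app _ z)
    (tmSh_naturality_left (adj.counit.app O) _ (pb F sp) (pb F t))).trans ?_
  refine (congrArg (fun z => (DCoh.toP.map (structureTensorIso _).hom).app _ (tmSh O _ z (pb F t))) hc).trans ?_
  exact structureTensorIso_tmSh _ _ (pb F t)

theorem subsingleton_HH0_push {Y : Scheme.{u}} (f : Y ⟶ X) (M : Y.Modules) (h : Subsingleton (Coh.HH Y M 0)) :
    Subsingleton (Coh.HH X ((Coh.push f).obj M) 0) := by
  have h2 : Subsingleton Γ(M, ⊤) :=
    (Sheaf.H.equiv₀ (Coh.toAb M) isTerminalTop).toEquiv.subsingleton_congr.1 h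
  exact (Sheaf.H.equiv₀ (Coh.toAb ((Coh.push f).obj M)) isTerminalTop).toEquiv.subsingleton_congr.2 h2

theorem whiskerRight_eq {A B : X.Modules} (u : A ⟶ B) (E : X.Modules) :
    (DCoh.tensorBi.map u).app E =
      (commIso A E).hom ≫ (DCoh.tensorBi.obj E).map u ≫ (commIso E B).hom := by
  show DCoh.shP.map (DCoh.toP.map u ▷ DCoh.toP.obj E) = DCoh.shP.map _ ≫ DCoh.shP.map _ ≫ DCoh.shP.map _
  rw [← Functor.map_comp, ← Functor.map_comp]
  congr 1
  simp

theorem unit_eq (E : X.Modules) :
    (Scheme.Modules.pullbackPushforwardAdjunction (FrobSch.frob X p)).unit.app E =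
      ((structureTensorIso E).inv ≫ (commIso (Coh.structureModule X) E).hom) ≫
        (DCoh.tensorBi.obj E).map (powMap p) ≫
          ((commIso E ((Coh.push (FrobSch.frob X p)).obj (Coh.structureModule X))).hom ≫ projUnit p E) := by
  rw [Category.assoc, Iso.eq_inv_comp, ← powMap_projUnit p E, whiskerRight_eq]
  simp only [Category.assoc]

theorem injective_mapLin_comp (A : Type u) [CommRing A] [X.Over (Spec (CommRingCat.of A))]
    {M N K : X.Modules} (φ : M ⟶ N) (ψ : N ⟶ K) (n : ℕ) (hφ : Function.Injective (mapLin A φ n))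
    (hψ : Function.Injective (mapLin A ψ n)) : Function.Injective (mapLin A (φ ≫ ψ) n) := by
  intro x y hxy
  have hm : ∀ x : Coh.HH X M n, mapLin A (φ ≫ ψ) n x = mapLin A ψ n (mapLin A φ n x) := fun x =>
    (PnCoh.Finite.map_map (Y := X.toPresheafedSpace.carrier) ((QCoh.toAbFunctor X).map_comp φ ψ).symm n x).symm
  rw [hm, hm] at hxy
  exact hφ (hψ hxy)

theorem injective_mapLin_iso (A : Type u) [Field A] [X.Over (Spec (CommRingCat.of A))]
    {M N : X.Modules} (φ : M ⟶ N) [IsIso φ] (n : ℕ) : Function.Injective (mapLin A φ n) :=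
  (CurveCohLib.hhEquiv (k := A) (asIso φ) n).injective

variable (k : Type u) [Field k] [IsAlgClosed k] [CharP k p] [X.Over (Spec (CommRingCat.of k))]
  [IsProper (X ↘ Spec (CommRingCat.of k))] [IsIntegral X]

set_option maxHeartbeats 400000 in
include k in
/-- `H¹(E) → H¹(F_* F^* E)` is injective when `F^* E ⊗ Ω` has no sections. -/
theorem injective_unit (hn : Pi1.IsNormalScheme X) (E : X.Modules) (hE : FlatMod.IsFinLocFree E)
    (h0 : Subsingleton (Coh.HH X (CohB1.tensorMod ((Scheme.Modules.pullback (FrobSch.frob X p)).obj E)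
      (Omega.sheaf (X ↘ Spec (CommRingCat.of k)))) 0)) :
    Function.Injective (mapLin k ((Scheme.Modules.pullbackPushforwardAdjunction (FrobSch.frob X p)).unit.app E) 1) := by
  haveI := CurveCohLib.isNoetherian_of_proper (k := k) (X := X)
  haveI := mono_powMap (X := X) p
  let F := FrobSch.frob X p
  let Ω := Omega.sheaf (X ↘ Spec (CommRingCat.of k))
  let T := DCoh.tensorBi.obj E
  let u := powMap (X := X) p
  let π := cokernel.π u
  let db : cokernel u ⟶ (Coh.push F).obj Ω := cokernel.desc u (dPush p) (powMap_comp_dPush p)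
  haveI : Mono db := mono_desc_dPush p hn
  have hS : (ShortComplex.mk u π (cokernel.condition u)).ShortExact :=
    { exact := ShortComplex.exact_of_g_is_cokernel _ (cokernelIsCokernel u) }
  have hD : (ShortComplex.mk db (cokernel.π db) (cokernel.condition db)).ShortExact :=
    { exact := ShortComplex.exact_of_g_is_cokernel _ (cokernelIsCokernel db) }
  have hTS := shortExact_tensor hE _ _ _ hS
  have hTD := shortExact_tensor hE _ _ _ hD
  haveI hΩ : Subsingleton (Coh.HH X (T.obj ((Coh.push F).obj Ω)) 0) := by
    haveI := isIso_projMod_of_homeo F (isHomeomorph_frob p) Ω E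
    let P := (Scheme.Modules.pullback F).obj E
    have h1 : Subsingleton (Coh.HH X ((DCoh.tensorBi.obj Ω).obj P) 0) :=
      (CurveCohLib.hhEquiv (k := k) (commIso Ω P) 0).toEquiv.subsingleton_congr.2 h0
    exact (CurveCohLib.hhEquiv (k := k) (commIso E ((Coh.push F).obj Ω) ≪≫ asIso (projMod F Ω E)) 0).toEquiv.subsingleton_congr.2
      (subsingleton_HH0_push F _ h1)
  haveI hQ : Subsingleton (Coh.HH X (T.obj (cokernel u)) 0) :=
    (CurveCohLib.mapLin_f_zero_injective k hTD).subsingleton
  have hinj : Function.Injective (mapLin k (T.map u) 1) := by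
    rw [← LinearMap.ker_eq_bot]
    refine (CurveCohLib.ker_mapLin_f_succ k hTS 0).trans ?_
    rw [LinearMap.range_eq_bot]
    exact LinearMap.ext fun z => by rw [Subsingleton.elim z 0, map_zero, LinearMap.zero_apply]
  haveI := isIso_projUnit p E
  rw [unit_eq p E]
  exact injective_mapLin_comp k _ _ 1 (injective_mapLin_iso k _ 1)
    (injective_mapLin_comp k _ _ 1 hinj (injective_mapLin_iso k _ 1))

end

end Groth.Agent.KodV43
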