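import Groth.Agent.KodV43.FrobH1
import Groth.Agent.KodV43.FrobPow
import Groth.Agent.QCoh.AffineCohom
import Groth.Agent.GrpSchLib.SmoothRegular
import Groth.Agent.RegLoc6.Normal
import Groth.Agent.H23.PicMul

/-!
# Vanishing of `H¹` of an inverse module through Frobenius
-/

set_option autoImplicit false
set_option linter.style.haveILetI false
set_option backward.isDefEq.respectTransparency false
set_option backward.isDefEq.respectTransparency.types false

universe u

open CategoryTheory CategoryTheory.Limits AlgebraicGeometry TopologicalSpace Opposite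

namespace Groth.Agent.KodV43

variable {X : Scheme.{u}} (k : Type u) [Field k] [IsAlgClosed k] (p : ℕ) [Fact p.Prime] [CharP k p]
  [X.Over (Spec (CommRingCat.of k))] [IsProper (X ↘ Spec (CommRingCat.of k))] [IsIntegral X]

include k in
theorem isCharP_of_over : FrobSch.IsCharP X p := FrobSch.IsCharP.of_hom (X ↘ Spec (CommRingCat.of k)) p

include k in
/-- If `H⁰(L^p ⊗ Ω) = 0` and `H¹(L^p) = 0` then `H¹(L) = 0`. -/
theorem subsingleton_H1_of_pow (hn : Pi1.IsNormalScheme X) {L : X.Modules} (hL : PicF.IsInvertible L)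
    (h0 : Subsingleton (Coh.HH X (CohB1.tensorMod (CohB1.tensorPow L p) (Omega.sheaf (X ↘ (Spec (CommRingCat.of k))))) 0))
    (h1 : Subsingleton (Coh.HH X (CohB1.tensorPow L p) 1)) : Subsingleton (Coh.HH X L 1) := by
  haveI := isCharP_of_over k p (X := X)
  obtain ⟨e⟩ := nonempty_frobPullIso p hL
  have hfl := CurveStable.isFinLocFree_of_rank (InvEnd.isFinLocFreeOfRank_one hL)
  have h0' : Subsingleton (Coh.HH X (CohB1.tensorMod ((Scheme.Modules.pullback (FrobSch.frob X p)).obj L)
      (Omega.sheaf (X ↘ Spec (CommRingCat.of k)))) 0) :=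
    (CurveCohLib.hhEquiv (k := k) (PicGrp.tensorModIso e (Iso.refl _)) 0).toEquiv.subsingleton_congr.2 h0
  have hinj := injective_unit p k hn L hfl h0'
  haveI := FrobSchLib.isIntegralHom_frob p X
  obtain ⟨a⟩ := QCoh.HH_push_of_isAffineHom (FrobSch.frob X p)
    (M := (Scheme.Modules.pullback (FrobSch.frob X p)).obj L)
    (QCoh.isQCoh_pullback _ (QCoh.isQCoh_of_isFinLocFree hfl)) 1
  haveI : Subsingleton (Coh.HH X ((Scheme.Modules.pullback (FrobSch.frob X p)).obj L) 1) :=
    (CurveCohLib.hhEquiv (k := k) e 1).toEquiv.subsingleton_congr.2 h1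
  haveI : Subsingleton (Coh.HH X ((Coh.push (FrobSch.frob X p)).obj
      ((Scheme.Modules.pullback (FrobSch.frob X p)).obj L)) 1) := a.symm.toEquiv.subsingleton
  exact @Function.Injective.subsingleton _ _ _ hinj a.symm.toEquiv.subsingleton

open H23.PicMul in
include k in
/-- The iterated form of `subsingleton_H1_of_pow`. -/
theorem subsingleton_H1_of_pow_pow (hn : Pi1.IsNormalScheme X) {L : X.Modules} (hL : PicF.IsInvertible L)
    (h0 : ∀ n : ℕ, 1 ≤ n → Subsingleton (Coh.HH X (CohB1.tensorMod (CohB1.tensorPow L (p ^ n))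
      (Omega.sheaf (X ↘ (Spec (CommRingCat.of k))))) 0))
    (n : ℕ) (h1 : Subsingleton (Coh.HH X (CohB1.tensorPow L (p ^ n)) 1)) : Subsingleton (Coh.HH X L 1) := by
  induction n with
  | zero =>
    obtain ⟨e⟩ : Nonempty (CohB1.tensorPow L (p ^ 0) ≅ L) :=
      cl_eq_iff.1 (by rw [cl_tensorPow, pow_zero, pow_one])
    exact (CurveCohLib.hhEquiv (k := k) e 1).toEquiv.subsingleton_congr.1 h1
  | succ n ih =>
    refine ih ?_
    obtain ⟨e⟩ : Nonempty (CohB1.tensorPow (CohB1.tensorPow L (p ^ n)) p ≅ CohB1.tensorPow L (p ^ (n + 1))) :=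
      cl_eq_iff.1 (by rw [cl_tensorPow, cl_tensorPow, cl_tensorPow, pow_succ, pow_mul])
    exact subsingleton_H1_of_pow k p hn (InvX.isInvertible_tensorPow hL _)
      ((CurveCohLib.hhEquiv (k := k) (PicGrp.tensorModIso e (Iso.refl _)) 0).toEquiv.subsingleton_congr.2
        (h0 (n + 1) n.succ_pos))
      ((CurveCohLib.hhEquiv (k := k) e 1).toEquiv.subsingleton_congr.2 h1)

omit [IsAlgClosed k] [CharP k p] [Fact p.Prime] [IsIntegral X] in
/-- Smooth schemes over a field are normal. -/
theorem isNormalScheme_of_smooth [Smooth (X ↘ Spec (CommRingCat.of k))] : Pi1.IsNormalScheme X := fun y => by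
  haveI := GrpSchLib.isRegularLocalRing_stalk_of_smooth (X ↘ Spec (CommRingCat.of k)) y
  exact ⟨RegLoc6.isDomain_of_isRegularLocalRing _, RegLoc6.isIntegrallyClosed_of_isRegularLocalRing _⟩

end Groth.Agent.KodV43
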