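import Groth.Agent.KFlatLib.Scheme.ProjModule

/-!
# The projection formula for modules along a homeomorphism
-/

set_option linter.style.haveILetI false
set_option backward.isDefEq.respectTransparency false
set_option backward.isDefEq.respectTransparency.types false

universe w' w u

open CategoryTheory CategoryTheory.Limits AlgebraicGeometry TopologicalSpace Opposite

namespace Groth.Agent.KodV43

open Groth.Agent.KFlatLib hiding stalkPushIso preservesColimitsOfShape_push

variable {X Y : Scheme.{u}} (f : X ⟶ Y) (hf : IsHomeomorph f.base)

include hf in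
theorem isIso_stalkPushforward_homeo (M : X.Modules) (x : X) :
    IsIso (TopCat.Presheaf.stalkPushforward Ab.{u} f.base M.presheaf x) :=
  TopCat.Presheaf.stalkPushforward.stalkPushforward_iso_of_isInducing Ab.{u}
    hf.isInducing M.presheaf x

/-- The stalk of a pushforward at a point of the image. -/
noncomputable def stalkPushIso (x : X) :
    Scheme.Modules.pushforward f ⋙ stalkAb (X := Y) (f.base x) ≅ stalkAb (X := X) x :=
  NatIso.ofComponents (fun M => haveI := isIso_stalkPushforward_homeo f hf M x; asIso (TopCat.Presheaf.stalkPushforward Ab.{u} f.base M.presheaf x))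
    fun {M N} φ => KFlatLib.stalkPushforward_naturality' f.base ((toAb X ⋙ TopCat.Sheaf.forget _ _).map φ) x

include hf in
/-- Pushforward along a homeomorphism preserves the colimits that stalks preserve. -/
theorem preservesColimitsOfShape_push (K : Type w) [Category.{w'} K]
    [HasColimitsOfShape K X.Modules] [HasColimitsOfShape K Y.Modules]
    [HasColimitsOfShape K Ab.{u}]
    [∀ x : X, PreservesColimitsOfShape K (stalkAb (X := X) x)]
    [∀ y : Y, PreservesColimitsOfShape K (stalkAb (X := Y) y)] :
    PreservesColimitsOfShape K (Scheme.Modules.pushforward f) where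
  preservesColimit {F} := by
    haveI : IsIso (colimit.post F (Scheme.Modules.pushforward f)) := isIso_of_stalk _ fun y => by
      let S := stalkAb (X := Y) y
      haveI : PreservesColimit F (Scheme.Modules.pushforward f ⋙ S) := by
        obtain ⟨x, rfl⟩ := hf.surjective y
        exact preservesColimit_of_natIso F (stalkPushIso f hf x).symm
      haveI : IsIso (colimit.post (F ⋙ Scheme.Modules.pushforward f) S ≫
          S.map (colimit.post F (Scheme.Modules.pushforward f))) := by
        rw [colimit.post_post F (Scheme.Modules.pushforward f) S]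
        exact (inferInstance : IsIso (colimit.post F (Scheme.Modules.pushforward f ⋙ S)))
      have h : IsIso (S.map (colimit.post F (Scheme.Modules.pushforward f))) :=
        IsIso.of_isIso_comp_left (colimit.post (F ⋙ Scheme.Modules.pushforward f) S) _
      exact @isIso_of_reflects_iso _ _ _ _ _ _ _
        (forget₂ (ModuleCat (Y.presheaf.stalk y)) AddCommGrpCat) h _
    exact preservesColimit_of_isIso_post _ F

include hf in
/-- The projection map along a homeomorphism is invertible. -/
theorem isIso_projMod_of_homeo (M : X.Modules) (N : Y.Modules) :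
    IsIso (projMod f M N) := by
  haveI : PreservesColimitsOfSize.{u, u} (Scheme.Modules.pushforward f) :=
    ⟨fun {K} _ => preservesColimitsOfShape_push f hf K⟩
  haveI : PreservesColimitsOfShape WalkingParallelPair (Scheme.Modules.pushforward f) :=
    preservesColimitsOfShape_push f hf _
  let A := DCoh.tensorBi.obj ((Scheme.Modules.pushforward f).obj M)
  let B := Scheme.Modules.pullback f ⋙ DCoh.tensorBi.obj M ⋙ Scheme.Modules.pushforward f
  let η : A ⟶ B := { app := projMod f M, naturality := fun _ _ g => projMod_naturality_right f M g }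
  haveI : PreservesColimitsOfSize.{u, u} A := ⟨fun {K} _ => inferInstance⟩
  haveI : PreservesColimitsOfSize.{u, u} (DCoh.tensorBi.obj M) := ⟨fun {K} _ => inferInstance⟩
  refine isIso_app_of_generators η (fun V => ?_) N
  let L := (lsh V.ι).obj (Coh.structureModule (V : Scheme.{u}))
  let c : L ⟶ Coh.structureModule Y := (lsh V.ι).map (restrictStructureIso V.ι).inv ≫
    (lshAdj V.ι).counit.app (Coh.structureModule Y)
  refine isIso_of_stalk _ fun y => ?_
  by_cases hy : y ∈ V
  · have hc : IsIso ((DerSch.stalkFunctor Y y).map c) := by
      have hr : IsIso ((Scheme.Modules.restrictFunctor V.ι).map c) := by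
        haveI : IsIso ((Scheme.Modules.restrictFunctor V.ι).map
            ((lshAdj V.ι).counit.app (Coh.structureModule Y))) :=
          IsIso.of_isIso_fac_left ((lshAdj V.ι).right_triangle_components (Coh.structureModule Y))
        rw [Functor.map_comp]
        infer_instance
      have hb := ConcreteCategory.bijective_of_isIso
        ((DerSch.stalkFunctor (V : Scheme.{u}) ⟨y, hy⟩).map ((Scheme.Modules.restrictFunctor V.ι).map c))
      exact (ConcreteCategory.isIso_iff_bijective _).2 ⟨injective_stalk_of_restrict V.ι _ ⟨y, hy⟩ hb.1,
        surjective_stalk_of_restrict V.ι _ ⟨y, hy⟩ hb.2⟩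
    haveI hA : IsIso ((DerSch.stalkFunctor Y y).map (A.map c)) :=
      (NatIso.isIso_map_iff (stalkTensorLeftIso ((Scheme.Modules.pushforward f).obj M) y) c).2
        (Functor.map_isIso (MonoidalCategory.tensorLeft _) _)
    haveI hB : IsIso ((DerSch.stalkFunctor Y y).map (B.map c)) := by
      suffices h : IsIso ((Scheme.Modules.pushforward f ⋙ stalkAb (X := Y) y).map
          ((DCoh.tensorBi.obj M).map ((Scheme.Modules.pullback f).map c))) from
        @isIso_of_reflects_iso _ _ _ _ _ _ _ (forget₂ (ModuleCat (Y.presheaf.stalk y)) AddCommGrpCat) h _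
      obtain ⟨x, rfl⟩ := hf.surjective y
      have h₁ : IsIso ((DerSch.stalkFunctor X x).map ((Scheme.Modules.pullback f).map c)) :=
        (NatIso.isIso_map_iff (stalkPullbackIso f x) c).2
          (Functor.map_isIso (ModuleCat.extendScalars (f.stalkMap x).hom) ((DerSch.stalkFunctor Y (f.base x)).map c))
      have h₂ : IsIso ((DerSch.stalkFunctor X x).map
          ((DCoh.tensorBi.obj M).map ((Scheme.Modules.pullback f).map c))) :=
        (NatIso.isIso_map_iff (stalkTensorLeftIso M x) ((Scheme.Modules.pullback f).map c)).2
          (Functor.map_isIso (MonoidalCategory.tensorLeft _) _)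
      exact (NatIso.isIso_map_iff (stalkPushIso f hf x) _).2
        (Functor.map_isIso (forget₂ (ModuleCat (X.presheaf.stalk x)) AddCommGrpCat)
          ((DerSch.stalkFunctor X x).map
            ((DCoh.tensorBi.obj M).map ((Scheme.Modules.pullback f).map c))))
    haveI hO : IsIso (η.app (Coh.structureModule Y)) := isIso_projMod_structure f M
    haveI : IsIso ((DerSch.stalkFunctor Y y).map (η.app L) ≫ (DerSch.stalkFunctor Y y).map (B.map c)) := by
      rw [← Functor.map_comp, ← η.naturality c, Functor.map_comp]
      infer_instance
    exact IsIso.of_isIso_comp_right _ ((DerSch.stalkFunctor Y y).map (B.map c))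
  · have hL : IsZero ((DerSch.stalkFunctor Y y).obj L) :=
      isZero_stalk_lsh V.ι y (fun ⟨v, hv⟩ => hy (hv ▸ v.2)) _
    have h₁ := isZero_stalk_tensor_right y ((Scheme.Modules.pushforward f).obj M) L hL
    have h₂ : IsZero ((DerSch.stalkFunctor Y y).obj (B.obj L)) := by
      suffices h : IsZero ((Scheme.Modules.pushforward f ⋙ stalkAb (X := Y) y).obj
          ((DCoh.tensorBi.obj M).obj ((Scheme.Modules.pullback f).obj L))) from
        ModuleCat.isZero_of_iff_subsingleton.2 (AddCommGrpCat.subsingleton_of_isZero h)
      obtain ⟨x, rfl⟩ := hf.surjective y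
      exact IsZero.of_iso (isZero_stalkAb_of_isZero x
        (isZero_stalk_tensor_right x M _ (isZero_stalk_pullback f x hL))) ((stalkPushIso f hf x).app _)
    exact ⟨0, h₁.eq_of_src _ _, h₂.eq_of_src _ _⟩

end Groth.Agent.KodV43
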